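import Mathlib.AlgebraicGeometry.Scheme
import Mathlib.AlgebraicGeometry.AffineScheme
import Mathlib.RingTheory.Valuation.ValuationSubring
import Mathlib.AlgebraicGeometry.Stalk

/-!
Gluing morphisms from the spectrum of a valuation ring composed of two valuation rings.
-/

set_option backward.isDefEq.respectTransparency.types false

universe u
open CategoryTheory AlgebraicGeometry

namespace Groth.Agent.ValGlueLift

/-- A morphism from the spectrum of a local ring lands in every open containing the image of the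
closed point. -/
theorem range_subset_of_closedPoint {A : Type u} [CommRing A] [IsLocalRing A] {X : Scheme.{u}}
    (p : Spec (CommRingCat.of A) ⟶ X) {W : X.Opens} (h : p (IsLocalRing.closedPoint A) ∈ W) :
    Set.range p ⊆ (W : Set X) := by
  rintro _ ⟨a, rfl⟩
  exact ((IsLocalRing.specializes_closedPoint a).map p.continuous).mem_open W.isOpen h

/-- Two morphisms from the spectrum of a local ring agreeing at the closed point and after an
injective ring map are equal. -/
theorem hom_ext_of_injective {A B : Type u} [CommRing A] [IsLocalRing A] [CommRing B] (ι : A →+* B)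
    (hι : Function.Injective ι) {X : Scheme.{u}} (p q : Spec (CommRingCat.of A) ⟶ X)
    (h0 : p (IsLocalRing.closedPoint A) = q (IsLocalRing.closedPoint A))
    (h : Spec.map (CommRingCat.ofHom ι) ≫ p = Spec.map (CommRingCat.ofHom ι) ≫ q) : p = q := by
  obtain ⟨W, hW, hmem, -⟩ := exists_isAffineOpen_mem_and_subset
    (X := X) (x := p (IsLocalRing.closedPoint A)) (U := ⊤) trivial
  have hp : Set.range p ⊆ Set.range hW.fromSpec := by
    rw [hW.range_fromSpec]; exact range_subset_of_closedPoint p hmem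
  have hq : Set.range q ⊆ Set.range hW.fromSpec := by
    rw [hW.range_fromSpec]; exact range_subset_of_closedPoint q (h0 ▸ hmem)
  have ep := IsOpenImmersion.lift_fac hW.fromSpec p hp
  have eq := IsOpenImmersion.lift_fac hW.fromSpec q hq
  rw [← ep, ← eq, ← Category.assoc, ← Category.assoc, cancel_mono,
    ← Spec.map_preimage (IsOpenImmersion.lift hW.fromSpec p hp),
    ← Spec.map_preimage (IsOpenImmersion.lift hW.fromSpec q hq),
    ← Spec.map_comp, ← Spec.map_comp, Spec.map_inj] at h
  rw [← ep, ← eq, ← Spec.map_preimage (IsOpenImmersion.lift hW.fromSpec p hp),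
    ← Spec.map_preimage (IsOpenImmersion.lift hW.fromSpec q hq)]
  congr 2
  ext x
  exact hι (DFunLike.congr_fun (congrArg CommRingCat.Hom.hom h) x)

/-- The lift over the composed valuation ring. -/
theorem existsUnique_lift {X Y : Scheme.{u}} (f : Y ⟶ X)
    (K : Type u) [Field K] (R R' : ValuationSubring K) (hRR' : R ≤ R')
    (ι : ↥R →+* ↥R') (hι : ∀ x : ↥R, ((ι x : ↥R') : K) = (x : K))
    (i : Spec (CommRingCat.of K) ⟶ Y) (φ : Spec (CommRingCat.of ↥R) ⟶ X)
    (g : Spec (CommRingCat.of ↥R') ⟶ Y) (hg₁ : Spec.map (CommRingCat.ofHom R'.subtype) ≫ g = i)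
    (hg₂ : g ≫ f = Spec.map (CommRingCat.ofHom ι) ≫ φ)
    (Rt : ValuationSubring (IsLocalRing.ResidueField ↥R')) (σ : ↥R →+* ↥Rt)
    (hσs : Function.Surjective σ)
    (hσ : ∀ x : ↥R, ((σ x : ↥Rt) : IsLocalRing.ResidueField ↥R') = IsLocalRing.residue ↥R' (ι x))
    (ht : Spec (CommRingCat.of ↥Rt) ⟶ Y)
    (hht₁ : Spec.map (CommRingCat.ofHom Rt.subtype) ≫ ht =
      Spec.map (CommRingCat.ofHom (IsLocalRing.residue ↥R')) ≫ g)
    (hht₂ : ht ≫ f = Spec.map (CommRingCat.ofHom σ) ≫ φ) :
    ∃! h : Spec (CommRingCat.of ↥R) ⟶ Y, Spec.map (CommRingCat.ofHom R.subtype) ≫ h = i ∧ h ≫ f = φ ∧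
      Spec.map (CommRingCat.ofHom ι) ≫ h = g ∧ Spec.map (CommRingCat.ofHom σ) ≫ h = ht := by
  have ιinj : Function.Injective ι := fun x y e => Subtype.ext (by rw [← hι, ← hι, e])
  have σloc : IsLocalHom σ := IsLocalHom.of_surjective σ hσs
  have hcl : Spec.map (CommRingCat.ofHom σ) (IsLocalRing.closedPoint ↥Rt) = IsLocalRing.closedPoint ↥R :=
    IsLocalRing.comap_closedPoint σ
  obtain ⟨W, hW, hmem, -⟩ := exists_isAffineOpen_mem_and_subset
    (X := Y) (x := ht (IsLocalRing.closedPoint ↥Rt)) (U := ⊤) trivial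
  have r1 : Set.range ht ⊆ (W : Set Y) := range_subset_of_closedPoint ht hmem
  have r2 : Set.range g ⊆ (W : Set Y) := by
    refine range_subset_of_closedPoint g ?_
    have : Spec.map (CommRingCat.ofHom (IsLocalRing.residue ↥R'))
        (IsLocalRing.closedPoint (IsLocalRing.ResidueField ↥R')) = IsLocalRing.closedPoint ↥R' :=
      IsLocalRing.comap_closedPoint (IsLocalRing.residue ↥R')
    rw [← this, ← Scheme.Hom.comp_apply, ← hht₁, Scheme.Hom.comp_apply]
    exact r1 ⟨_, rfl⟩
  rw [← hW.range_fromSpec] at r1 r2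
  let a := Spec.preimage (IsOpenImmersion.lift hW.fromSpec g r2)
  let b := Spec.preimage (IsOpenImmersion.lift hW.fromSpec ht r1)
  have ea : Spec.map a ≫ hW.fromSpec = g := by simp [a]
  have eb : Spec.map b ≫ hW.fromSpec = ht := by simp [b]
  have hab : ∀ x, ((b.hom x : ↥Rt) : IsLocalRing.ResidueField ↥R') = IsLocalRing.residue ↥R' (a.hom x) := by
    have h := hht₁
    rw [← ea, ← eb, ← Category.assoc, ← Category.assoc, cancel_mono, ← Spec.map_comp,
      ← Spec.map_comp, Spec.map_inj] at h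
    intro x
    exact DFunLike.congr_fun (congrArg CommRingCat.Hom.hom h) x
  have hR : ∀ x, ((a.hom x : ↥R') : K) ∈ R := by
    intro x
    obtain ⟨r, hr⟩ := hσs (b.hom x)
    have h0 : IsLocalRing.residue ↥R' (a.hom x - ι r) = 0 := by
      rw [map_sub, ← hab, ← hσ, hr, sub_self]
    rw [IsLocalRing.residue_eq_zero_iff, IsLocalRing.mem_maximalIdeal, mem_nonunits_iff] at h0
    generalize hd : a.hom x - ι r = d at h0
    have e : ((a.hom x : ↥R') : K) = (r : K) + (d : K) := by
      rw [← hd, ← hι r]; push_cast; ring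
    rw [e]
    refine R.add_mem _ _ r.2 ?_
    by_cases hd0 : (d : K) = 0
    · rw [hd0]; exact R.zero_mem
    · refine (R.mem_or_inv_mem (d : K)).resolve_right fun hinv => h0 ?_
      exact IsUnit.of_mul_eq_one (⟨(d : K)⁻¹, hRR' hinv⟩ : ↥R')
        (Subtype.ext (mul_inv_cancel₀ hd0))
  let c : Γ(Y, W) →+* ↥R := ((R'.subtype.comp a.hom).codRestrict R.toSubring hR)
  have hca : ι.comp c = a.hom := RingHom.ext fun x => Subtype.ext (hι (c x))
  have hcb : σ.comp c = b.hom := by
    refine RingHom.ext fun x => Subtype.ext ?_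
    rw [RingHom.comp_apply, hσ, hab]
    exact congrArg _ (DFunLike.congr_fun hca x)
  let h : Spec (CommRingCat.of ↥R) ⟶ Y := Spec.map (CommRingCat.ofHom c) ≫ hW.fromSpec
  have e3 : Spec.map (CommRingCat.ofHom ι) ≫ h = g := by
    rw [← Category.assoc, ← Spec.map_comp, ← CommRingCat.ofHom_comp, hca, ← ea]
    rfl
  have e4 : Spec.map (CommRingCat.ofHom σ) ≫ h = ht := by
    rw [← Category.assoc, ← Spec.map_comp, ← CommRingCat.ofHom_comp, hcb, ← eb]
    rfl
  have e1 : Spec.map (CommRingCat.ofHom R.subtype) ≫ h = i := by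
    have hsub : R'.subtype.comp ι = R.subtype := RingHom.ext hι
    rw [← hg₁, ← e3, ← hsub, CommRingCat.ofHom_comp, Spec.map_comp, Category.assoc]
  have e2 : h ≫ f = φ := by
    refine hom_ext_of_injective ι ιinj _ _ ?_ ?_
    · rw [← hcl, ← Scheme.Hom.comp_apply, ← Scheme.Hom.comp_apply, ← Category.assoc, e4, hht₂]
    · rw [← Category.assoc, e3, hg₂]
  refine ⟨h, ⟨e1, e2, e3, e4⟩, fun h' ⟨_, _, e3', e4'⟩ => ?_⟩
  refine hom_ext_of_injective ι ιinj _ _ ?_ (e3'.trans e3.symm)
  rw [← hcl, ← Scheme.Hom.comp_apply, ← Scheme.Hom.comp_apply, e4', e4]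

end Groth.Agent.ValGlueLift
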